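import Groth.Agent.H02CA.Euler.Sequence
import Groth.Agent.H06Mod.StalkExact
import Groth.Agent.H29Omega.ConormalStalk
import Groth.Agent.H16Derived.KFlat.LocFreeOps
import Groth.Agent.H23KS.CurveLattice

/-!
# Stalks of finite sums of copies of a module with free stalk
-/

set_option autoImplicit false
set_option linter.style.haveILetI false
set_option backward.isDefEq.respectTransparency false
set_option maxHeartbeats 800000
universe u

open CategoryTheory CategoryTheory.Limits AlgebraicGeometry TopologicalSpace Opposite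
open Groth.Agent.H06Mod

namespace Groth.Agent.H02CA.Tango

variable {X : Scheme.{u}}

theorem stalkLin_add {M N : X.Modules} (f g : M ⟶ N) (x : X) : stalkLin (f + g) x = stalkLin f x + stalkLin g x := by
  refine LinearMap.ext fun z => ?_
  obtain ⟨V, hV, s, rfl⟩ := TopCat.Presheaf.exists_germ_eq _ z
  rw [LinearMap.add_apply, stalkLin_germ, stalkLin_germ, stalkLin_germ, ← map_add]
  rfl

theorem stalkLin_zero {M N : X.Modules} (x : X) : stalkLin (0 : M ⟶ N) x = 0 :=
  left_eq_add.1 ((congrArg (stalkLin · x) (add_zero (0 : M ⟶ N)).symm).trans (stalkLin_add 0 0 x))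

theorem stalkLin_sum {M N : X.Modules} {ι : Type*} (s : Finset ι) (f : ι → (M ⟶ N)) (x : X) :
    stalkLin (∑ i ∈ s, f i) x = ∑ i ∈ s, stalkLin (f i) x := by
  classical
  induction s using Finset.induction_on with
  | empty => exact stalkLin_zero x
  | insert i t hi ih => rw [Finset.sum_insert hi, Finset.sum_insert hi, stalkLin_add, ih]

theorem stalkLin_id' {M : X.Modules} (x : X) (z : M.presheaf.stalk x) : stalkLin (𝟙 M) x z = z := by
  obtain ⟨V, hV, s, rfl⟩ := TopCat.Presheaf.exists_germ_eq _ z
  rw [stalkLin_germ]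
  rfl

variable {N : ℕ} (L : X.Modules) (x : X)

theorem eq_sum_proj (z : (∐ fun _ : Fin N => L).presheaf.stalk x) :
    z = ∑ l, stalkLin (Sigma.ι (fun _ : Fin N => L) l) x (stalkLin (Euler.proj (fun _ : Fin N => L) l) x z) := by
  conv_lhs => rw [← stalkLin_id' x z, ← Euler.sum_proj_ι, stalkLin_sum, LinearMap.sum_apply]
  exact Finset.sum_congr rfl fun l _ => H29Omega.stalkLin_comp _ _ _ _

theorem proj_ι_apply (m l : Fin N) (z : L.presheaf.stalk x) :
    stalkLin (Euler.proj (fun _ : Fin N => L) l) x (stalkLin (Sigma.ι (fun _ : Fin N => L) m) x z) =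
      if m = l then z else 0 := by
  rw [← H29Omega.stalkLin_comp, Euler.ι_proj]
  split_ifs with h
  · subst h
    exact stalkLin_id' x z
  · rw [stalkLin_zero]; rfl

variable (g : L.presheaf.stalk x)

/-- Coordinates on the stalk of a sum. -/
noncomputable def sumLin : (Fin N → X.presheaf.stalk x) →ₗ[X.presheaf.stalk x] (∐ fun _ : Fin N => L).presheaf.stalk x :=
  ∑ l, (stalkLin (Sigma.ι (fun _ : Fin N => L) l) x ∘ₗ LinearMap.toSpanSingleton _ _ g) ∘ₗ LinearMap.proj l

theorem sumLin_apply (r : Fin N → X.presheaf.stalk x) :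
    sumLin L x g r = ∑ l, stalkLin (Sigma.ι (fun _ : Fin N => L) l) x (r l • g) := by
  simp [sumLin]

theorem proj_sumLin (r : Fin N → X.presheaf.stalk x) (m : Fin N) :
    stalkLin (Euler.proj (fun _ : Fin N => L) m) x (sumLin L x g r) = r m • g := by
  rw [sumLin_apply, map_sum]
  simp only [proj_ι_apply]
  rw [Finset.sum_ite_eq' Finset.univ m (fun l => r l • g)]
  simp

theorem bijective_sumLin (hg : Function.Bijective fun r : X.presheaf.stalk x => r • g) :
    Function.Bijective (sumLin (N := N) L x g) := by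
  refine ⟨fun r s h => funext fun m => hg.1 ?_, fun z => ?_⟩
  · show r m • g = s m • g
    rw [← proj_sumLin, h, proj_sumLin]
  · choose r hr using fun l => hg.2 (stalkLin (Euler.proj (fun _ : Fin N => L) l) x z)
    refine ⟨r, ?_⟩
    rw [sumLin_apply, eq_sum_proj L x z]
    exact Finset.sum_congr rfl fun l _ => congrArg _ (hr l)

theorem finrank_sigma_stalk (hg : Function.Bijective fun r : X.presheaf.stalk x => r • g) :
    Module.finrank (X.presheaf.stalk x) ((∐ fun _ : Fin N => L).presheaf.stalk x) = N := by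
  rw [← (LinearEquiv.ofBijective _ (bijective_sumLin L x g hg)).finrank_eq, Module.finrank_fin_fun]

/-- A map of sums with invertible matrix is bijective on the stalk. -/
theorem bijective_of_matrix {L' : X.Modules} (g' : L'.presheaf.stalk x)
    (hg : Function.Bijective fun r : X.presheaf.stalk x => r • g)
    (hg' : Function.Bijective fun r : X.presheaf.stalk x => r • g')
    (φ : (∐ fun _ : Fin N => L) ⟶ ∐ fun _ : Fin N => L') (M : Matrix (Fin N) (Fin N) (X.presheaf.stalk x))
    (hM : ∀ l m, stalkLin (Sigma.ι (fun _ : Fin N => L) l ≫ φ ≫ Euler.proj (fun _ : Fin N => L') m) x g = M m l • g')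
    (hdet : IsUnit M.det) : Function.Bijective (stalkLin φ x) := by
  have hMb : Function.Bijective M.mulVecLin := by
    haveI := M.invertibleOfIsUnitDet hdet
    refine Function.bijective_iff_has_inverse.2 ⟨(⅟M).mulVecLin, fun v => ?_, fun v => ?_⟩
    · rw [Matrix.mulVecLin_apply, Matrix.mulVecLin_apply, Matrix.mulVec_mulVec, invOf_mul_self, Matrix.one_mulVec]
    · rw [Matrix.mulVecLin_apply, Matrix.mulVecLin_apply, Matrix.mulVec_mulVec, mul_invOf_self, Matrix.one_mulVec]
  have hcomm : ∀ r, stalkLin φ x (sumLin L x g r) = sumLin L' x g' (M.mulVecLin r) := by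
    intro r
    rw [eq_sum_proj L' x (stalkLin φ x (sumLin L x g r)), sumLin_apply L' x g']
    refine Finset.sum_congr rfl fun m _ => congrArg _ ?_
    rw [sumLin_apply, map_sum, map_sum, Matrix.mulVecLin_apply, Matrix.mulVec, dotProduct, Finset.sum_smul]
    refine Finset.sum_congr rfl fun l _ => ?_
    rw [← H29Omega.stalkLin_comp, ← H29Omega.stalkLin_comp, map_smul, hM l m, smul_smul, mul_comm]
  have h : stalkLin φ x ∘ sumLin L x g = sumLin L' x g' ∘ M.mulVecLin := funext hcomm
  exact (Function.Bijective.of_comp_iff _ (bijective_sumLin L x g hg)).1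
    (h ▸ (bijective_sumLin L' x g' hg').comp hMb)

end Groth.Agent.H02CA.Tango
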