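import Groth.Agent.H02CA.Euler.Matrix
import Groth.Agent.H02CA.Euler.LinForms
import Groth.Agent.H02CA.VBPn.NullExist
import Groth.Agent.H02CA.VBPn.NullCorr

/-!
# The maps of Tango's bundle
-/

set_option autoImplicit false
set_option linter.style.haveILetI false
set_option backward.isDefEq.respectTransparency false
set_option maxHeartbeats 1600000
universe u

open CategoryTheory CategoryTheory.Limits AlgebraicGeometry TopologicalSpace Opposite MvPolynomial
open Groth.Agent.H11Tilde Groth.Agent.H10Coh.Pn Groth.Agent.H02CA.Euler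

namespace Groth.Agent.H02CA.Tango

variable {k : Type u} [Field k] {n : ℕ}

local notation "Od'" d => Od n k d
local notation "toG" => Coh.toGlobal (toS n k)

/-- A linear form as a map `O(-1) → O`. -/
noncomputable def form (c : Fin (n + 1) → k) : Od n k (-1) ⟶ Od n k 0 :=
  ∑ j, Formal.smulModΓ (Od n k (-1)) (toG (c j)) ≫ mulX j (-1) 0 rfl

theorem form_eq_zero {c : Fin (n + 1) → k} (h : form c = 0) : c = 0 :=
  funext (VBPn.eq_zero_of_sum_smul_mulX c h)

theorem form_add (c c' : Fin (n + 1) → k) : form (c + c') = form c + form c' := by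
  simp only [form, Pi.add_apply, map_add, smulModΓ_add, Preadditive.add_comp, Finset.sum_add_distrib]

theorem form_injective : Function.Injective (form (k := k) (n := n)) := fun c c' h => by
  have h' : form (c - c') + form c' = form c' := by rw [← form_add, sub_add_cancel, h]
  exact sub_eq_zero.1 (form_eq_zero (add_eq_right.1 h'))

theorem smul_form (b : k) (c : Fin (n + 1) → k) :
    Formal.smulModΓ (Od n k (-1)) (toG b) ≫ form c = form (fun j => b * c j) := by
  simp only [form, Preadditive.comp_sum]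
  refine Finset.sum_congr rfl fun j _ => ?_
  rw [← Category.assoc, ← smulModΓ_mul, ← map_mul, mul_comm]

theorem form_smul (b : k) (c : Fin (n + 1) → k) :
    form c ≫ Formal.smulModΓ (Od n k 0) (toG b) = form (fun j => b * c j) := by
  rw [← smul_form, smulModΓ_natural]

theorem form_sum {ι : Type*} (s : Finset ι) (c : ι → Fin (n + 1) → k) :
    form (∑ i ∈ s, c i) = ∑ i ∈ s, form (c i) := by
  classical
  induction s using Finset.induction_on with
  | empty => simp [form, smulModΓ_zero]
  | insert i t hi ih => rw [Finset.sum_insert hi, Finset.sum_insert hi, form_add, ih]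

theorem sval_form (c : Fin (n + 1) → k) {U : (Proj (Gr n k)).Opens} (s : Γ(Od n k (-1), U)) (y : U) :
    sval (Gr n k) (Gr n k) ((form c).app U s) y =
      (show GrTwist.Loc (Gr n k) y.1 from Localization.mk (∑ j, C (c j) * X j) 1) • sval (Gr n k) (Gr n k) s y := by
  rw [form, app_sum_apply, sval_sum]
  simp only [sval_const_mulX, smul_eq_mul]
  rw [← Finset.sum_mul]
  simp only [Localization.mk_one_eq_algebraMap, map_sum]

/-- The sign of a pair of indices. -/
def sg (i j : Fin (n + 1)) : k := if i < j then 1 else if j < i then -1 else 0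

theorem sg_antisymm (i j : Fin (n + 1)) : sg (k := k) i j = -sg j i := by
  unfold sg
  rcases lt_trichotomy i j with h | rfl | h
  · rw [if_pos h, if_neg h.asymm, if_pos h, neg_neg]
  · simp
  · rw [if_neg h.asymm, if_pos h, if_pos h]

theorem sg_self (i : Fin (n + 1)) : sg (k := k) i i = 0 := by simp [sg]

/-- Coefficients of the antidiagonal quotient of `Λ² k^(n+1)`. -/
def coef (i : Fin (n + 1)) (s : Fin (2 * n - 1)) (j : Fin (n + 1)) : k :=
  if i.1 + j.1 = s.1 + 1 then sg i j else 0

theorem coef_antisymm (i j : Fin (n + 1)) (s : Fin (2 * n - 1)) : coef (k := k) i s j = -coef j s i := by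
  unfold coef
  rw [Nat.add_comm j.1 i.1]
  split_ifs
  · exact sg_antisymm i j
  · exact neg_zero.symm

variable (n k) in
/-- `O(-2) → O(-1)^(n+1)`. -/
noncomputable def w0 : Od n k (-2) ⟶ ∐ fun _ : Fin (n + 1) => Od n k (-1) :=
  ∑ i, mulX i (-2) (-1) rfl ≫ Sigma.ι (fun _ : Fin (n + 1) => Od n k (-1)) i

variable (n k) in
/-- `O(-1)^(n+1) → O^(2n-1)`. -/
noncomputable def lam : (∐ fun _ : Fin (n + 1) => Od n k (-1)) ⟶ ∐ fun _ : Fin (2 * n - 1) => Od n k 0 :=
  Sigma.desc fun i => ∑ s, form (coef i s) ≫ Sigma.ι (fun _ : Fin (2 * n - 1) => Od n k 0) s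

theorem ι_lam (i : Fin (n + 1)) : Sigma.ι (fun _ : Fin (n + 1) => Od n k (-1)) i ≫ lam k n =
    ∑ s, form (coef i s) ≫ Sigma.ι (fun _ : Fin (2 * n - 1) => Od n k 0) s :=
  Sigma.ι_desc _ _

theorem ι_lam_proj (i : Fin (n + 1)) (s : Fin (2 * n - 1)) :
    Sigma.ι (fun _ : Fin (n + 1) => Od n k (-1)) i ≫ lam k n ≫ proj (fun _ : Fin (2 * n - 1) => Od n k 0) s =
      form (coef i s) := by
  rw [← Category.assoc, ι_lam, Preadditive.sum_comp, Finset.sum_eq_single s]
  · rw [Category.assoc, ι_proj, dif_pos rfl, eqToHom_refl, Category.comp_id]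
  · intro b _ hb; rw [Category.assoc, ι_proj, dif_neg hb, comp_zero]
  · simp

theorem w0_lam : w0 k n ≫ lam k n = 0 := by
  have hz : ∀ s : Fin (2 * n - 1), ∑ i, mulX (R := k) i (-2) (-1) rfl ≫ form (coef i s) = 0 := by
    intro s
    simp only [form, Preadditive.comp_sum]
    rw [← Finset.sum_product']
    refine Finset.sum_involution (fun p _ => (p.2, p.1)) (fun p _ => ?_) (fun p _ hp h => hp ?_)
      (fun _ _ => Finset.mem_univ _) (fun _ _ => rfl)
    · obtain ⟨i, j⟩ := p
      show mulX i (-2) (-1) rfl ≫ Formal.smulModΓ _ (toG (coef i s j)) ≫ mulX j (-1) 0 rfl +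
        mulX j (-2) (-1) rfl ≫ Formal.smulModΓ _ (toG (coef j s i)) ≫ mulX i (-1) 0 rfl = 0
      rw [smulModΓ_natural, smulModΓ_natural, ← Category.assoc, ← Category.assoc, VBPn.mulX_comm i j,
        ← Preadditive.comp_add, ← smulModΓ_add, ← map_add, coef_antisymm i j, neg_add_cancel, map_zero,
        smulModΓ_zero, comp_zero]
    · obtain ⟨i, j⟩ := p
      obtain rfl : j = i := congrArg Prod.fst h
      have hc : coef (k := k) j s j = 0 := by unfold coef; rw [sg_self, ite_self]
      show mulX j (-2) (-1) rfl ≫ Formal.smulModΓ _ (toG (coef j s j)) ≫ mulX j (-1) 0 rfl = 0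
      rw [hc, map_zero, smulModΓ_zero, zero_comp, comp_zero]
  rw [w0, Preadditive.sum_comp]
  simp only [Category.assoc, ι_lam, Preadditive.comp_sum]
  rw [Finset.sum_comm]
  refine Finset.sum_eq_zero fun s _ => ?_
  simp only [← Category.assoc, ← Preadditive.sum_comp, hz s, zero_comp]

variable (n k) in
/-- The kernel bundle, `T(-2)`. -/
noncomputable abbrev tango₁ : (Proj (Gr n k)).Modules := cokernel (w0 k n)

variable (n k) in
/-- `T(-2) → O^(2n-1)`. -/
noncomputable def lamBar : tango₁ k n ⟶ ∐ fun _ : Fin (2 * n - 1) => Od n k 0 :=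
  cokernel.desc (w0 k n) (lam k n) w0_lam

theorem π_lamBar : cokernel.π (w0 k n) ≫ lamBar k n = lam k n := cokernel.π_desc _ _ _

/-- A polynomial vanishing in a local ring of projective space is zero. -/
theorem eq_zero_of_mk {p : MvPolynomial (Fin (n + 1)) k} (y : Proj (Gr n k))
    (h : (Localization.mk p 1 : GrTwist.Loc (Gr n k) y) = 0) : p = 0 := by
  rw [Localization.mk_one_eq_algebraMap, IsLocalization.map_eq_zero_iff y.asHomogeneousIdeal.toIdeal.primeCompl] at h
  obtain ⟨⟨t, ht⟩, htm⟩ := h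
  exact (mul_eq_zero.1 htm).resolve_left fun h0 => ht (by rw [show t = 0 from h0]; exact zero_mem _)

theorem lin_mul_X_inj {c c' : Fin (n + 1) → k} {l m : Fin (n + 1)} (hlm : l ≠ m)
    (h : (∑ i, C (c i) * X i) * X m = (∑ i, C (c' i) * X i) * X l) (a : Fin (n + 1)) (hal : a ≠ l) :
    c a = 0 := by
  classical
  have h2 := congrArg (coeff (Finsupp.single a 1 + Finsupp.single m 1)) h
  rw [coeff_mul_X, coeff_mul_X', if_neg (by
    simp [Finsupp.mem_support_iff, Finsupp.single_apply, Ne.symm hlm, hal])] at h2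
  simp only [coeff_sum, coeff_C_mul, coeff_X'] at h2
  rw [Finset.sum_eq_single a] at h2
  · simpa using h2
  · intro b _ hb
    rw [if_neg (fun h => hb (Finsupp.single_left_injective one_ne_zero h)), mul_zero]
  · simp

theorem sval_mulX_smul (b : k) (i : Fin (n + 1)) {U : (Proj (Gr n k)).Opens} (s : Γ(Od n k (-2), U)) (y : U) :
    sval (Gr n k) (Gr n k) ((mulX i (-2) (-1) rfl ≫ Formal.smulModΓ (Od n k (-1)) (toG b)).app U s) y =
      (show GrTwist.Loc (Gr n k) y.1 from Localization.mk (C b * X i) 1) • sval (Gr n k) (Gr n k) s y := by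
  rw [Scheme.Modules.Hom.comp_app, ConcreteCategory.comp_apply, smulModΓ_const_app, sval_smul, sval_mulX,
    fval_constΓ_map]
  simp only [smul_eq_mul]
  rw [← mul_assoc, Localization.mk_mul, one_mul]

/-- A matrix preserving the tautological line is scalar. -/
theorem scalar_of_preserve (B : Fin (n + 1) → Fin (n + 1) → k) (hn : 1 ≤ n) (z : Od n k (-2) ⟶ Od n k (-2))
    (h : ∀ l, ∑ i, mulX i (-2) (-1) rfl ≫ Formal.smulModΓ (Od n k (-1)) (toG (B i l)) = z ≫ mulX l (-2) (-1) rfl) :
    ∃ c : k, ∀ i l, B i l = if i = l then c else 0 := by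
  haveI : IsIntegral (Proj (Gr n k)) := LeadPic.PnRel.isIntegral_projSpace (n := n) k
  let y : Proj (Gr n k) := genericPoint _
  obtain ⟨i₀, hi₀⟩ := H11Ample.exists_mem_basicOpen_X (n := n) (R := k) y
  have key : ∀ l m, (∑ i, C (B i l) * X i) * X m = (∑ i, C (B i m) * X i) * X l := by
    intro l m
    let u := VBPn.genNeg2 (k := k) i₀ (le_refl (chart i₀))
    let y' : chart (R := k) i₀ := ⟨y, hi₀⟩
    have hv : ∀ l, (Localization.mk (∑ i, C (B i l) * X i) 1 : GrTwist.Loc (Gr n k) y) •
        sval (Gr n k) (Gr n k) u y' = (Localization.mk (X l) 1 : GrTwist.Loc (Gr n k) y) •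
          sval (Gr n k) (Gr n k) (z.app (chart i₀) u) y' := by
      intro l
      have h1 := congrArg (fun ψ : Od n k (-2) ⟶ Od n k (-1) => sval (Gr n k) (Gr n k) (ψ.app (chart i₀) u) y') (h l)
      simp only [app_sum_apply, sval_sum] at h1
      have h3 : sval (Gr n k) (Gr n k) ((z ≫ mulX l (-2) (-1) rfl).app (chart i₀) u) y' =
          (Localization.mk (X l) 1 : GrTwist.Loc (Gr n k) y) • sval (Gr n k) (Gr n k) (z.app (chart i₀) u) y' := by
        rw [Scheme.Modules.Hom.comp_app, ConcreteCategory.comp_apply, sval_mulX]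
      refine Eq.trans ?_ (h1.trans h3)
      simp only [sval_mulX_smul, smul_eq_mul]
      rw [← Finset.sum_mul]
      simp only [Localization.mk_one_eq_algebraMap, map_sum]
      rfl
    have hu : IsUnit (sval (Gr n k) (Gr n k) u y' : GrTwist.Loc (Gr n k) y) :=
      (isUnit_mk_iff (Gr n k) y 1 _).2 (one_notMem (Gr n k) y)
    refine sub_eq_zero.1 (eq_zero_of_mk y (hu.mul_left_eq_zero.1 ?_))
    have h1 := hv l
    have h2 := hv m
    simp only [smul_eq_mul, Localization.mk_one_eq_algebraMap] at h1 h2 ⊢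
    rw [map_sub, map_mul, map_mul]
    linear_combination (algebraMap (MvPolynomial (Fin (n + 1)) k) (GrTwist.Loc (Gr n k) y) (X m)) * h1 -
      (algebraMap (MvPolynomial (Fin (n + 1)) k) (GrTwist.Loc (Gr n k) y) (X l)) * h2
  haveI : Nontrivial (Fin (n + 1)) := by
    obtain ⟨p, rfl⟩ : ∃ p, n = p + 1 := ⟨n - 1, by omega⟩
    infer_instance
  have hoff : ∀ a l, a ≠ l → B a l = 0 := fun a l hal => by
    obtain ⟨m, hm⟩ := exists_ne l
    exact lin_mul_X_inj (Ne.symm hm) (key l m) a hal
  refine ⟨B 0 0, fun i l => ?_⟩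
  split_ifs with hil
  · subst hil
    have h1 := key i 0
    have hlin : ∀ l, (∑ a, C (B a l) * X a : MvPolynomial (Fin (n + 1)) k) = C (B l l) * X l := fun l =>
      Finset.sum_eq_single l (fun b _ hb => by rw [hoff b l hb, C_0, zero_mul]) (by simp)
    rw [hlin, hlin, mul_assoc, mul_assoc, mul_comm (X i : MvPolynomial (Fin (n + 1)) k) (X 0)] at h1
    exact C_injective _ _ (mul_right_cancel₀ (mul_ne_zero (X_ne_zero _) (X_ne_zero _)) h1)
  · exact hoff i l hil

end Groth.Agent.H02CA.Tango
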