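import Groth.Agent.H02CA.Tango.StalkSum
import Groth.Agent.H02CA.Tango.Forms
import Mathlib.RingTheory.LocalRing.ResidueField.Basic
import Mathlib.LinearAlgebra.Matrix.Block

/-!
# The map `T(-2) → O^(2n-1)` is a subbundle
-/

set_option autoImplicit false
set_option linter.style.haveILetI false
set_option backward.isDefEq.respectTransparency false
set_option maxHeartbeats 1600000
universe u

open CategoryTheory CategoryTheory.Limits AlgebraicGeometry TopologicalSpace Opposite MvPolynomial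
open Groth.Agent.H11Tilde Groth.Agent.H10Coh.Pn Groth.Agent.H02CA.Euler Groth.Agent.H06Mod

namespace Groth.Agent.H02CA.Tango

theorem bijective_germ_smul {X : Scheme.{u}} {L : X.Modules} {U : X.Opens} (g : Γ(L, U))
    (hg : ∀ (V : X.Opens) (h : V ≤ U), Function.Bijective fun r : Γ(X, V) => r • L.presheaf.map (homOfLE h).op g)
    {x : X} (hx : x ∈ U) :
    Function.Bijective fun r : X.presheaf.stalk x => r • L.presheaf.germ U x hx g := by
  constructor
  · intro a b hab
    obtain ⟨V, hV, r, rfl⟩ := TopCat.Presheaf.exists_germ_eq X.presheaf a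
    obtain ⟨V', hV', r', rfl⟩ := TopCat.Presheaf.exists_germ_eq X.presheaf b
    let W : X.Opens := V ⊓ V' ⊓ U
    have hW : x ∈ W := ⟨⟨hV, hV'⟩, hx⟩
    simp only at hab
    rw [← X.presheaf.germ_res_apply (homOfLE (inf_le_left.trans inf_le_left : W ≤ V)) x hW r,
      ← X.presheaf.germ_res_apply (homOfLE (inf_le_left.trans inf_le_right : W ≤ V')) x hW r',
      ← L.presheaf.germ_res_apply (homOfLE (inf_le_right : W ≤ U)) x hW g, ← germ_smul, ← germ_smul] at hab
    obtain ⟨W', hW', i₁, i₂, he⟩ := TopCat.Presheaf.germ_eq L.presheaf x hW hW _ _ hab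
    rw [Subsingleton.elim i₂ i₁, show i₁ = homOfLE i₁.le from rfl, Scheme.Modules.map_smul, Scheme.Modules.map_smul, H10Coh.mres_mres] at he
    have := (hg W' (i₁.le.trans inf_le_right)).1 he
    rw [← X.presheaf.germ_res_apply (homOfLE (inf_le_left.trans inf_le_left : W ≤ V)) x hW r,
      ← X.presheaf.germ_res_apply (homOfLE (inf_le_left.trans inf_le_right : W ≤ V')) x hW r',
      ← X.presheaf.germ_res_apply (homOfLE i₁.le) x hW', ← X.presheaf.germ_res_apply (homOfLE i₁.le) x hW', this]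
  · intro z
    obtain ⟨V, hV, s, rfl⟩ := TopCat.Presheaf.exists_germ_eq L.presheaf z
    let W : X.Opens := V ⊓ U
    obtain ⟨r, hr⟩ := (hg W inf_le_right).2 (L.presheaf.map (homOfLE (inf_le_left : W ≤ V)).op s)
    refine ⟨X.presheaf.germ W x ⟨hV, hx⟩ r, ?_⟩
    simp only at hr ⊢
    rw [← L.presheaf.germ_res_apply (homOfLE (inf_le_left : W ≤ V)) x ⟨hV, hx⟩ s, ← hr, germ_smul,
      L.presheaf.germ_res_apply]

variable {k : Type u} [Field k] {n : ℕ}

local notation "P" => Proj (Gr n k)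

/-- The degree zero generator. -/
noncomputable def one0 (V : (P).Opens) : Γ(Od n k 0, V) :=
  secOf (Gr n k) (Gr n k) (SetLike.one_mem_graded (Gr n k)) (SetLike.one_mem_graded (Gr n k))
    (fun y (_ : y ∈ V) => one_notMem (Gr n k) y) (by simp)

theorem sval_one0 (V : (P).Opens) (y : V) :
    sval (Gr n k) (Gr n k) (one0 V) y = (1 : GrTwist.Loc (Gr n k) y.1) :=
  Localization.mk_self (⟨1, one_notMem (Gr n k) y.1⟩ : primeC y.1)

theorem bijective_smul_one0 (V : (P).Opens) : Function.Bijective fun r : Γ(P, V) => r • one0 (k := k) (n := n) V :=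
  bijective_smul_gen (Gr n k) (SetLike.one_mem_graded (Gr n k)) (SetLike.one_mem_graded (Gr n k))
    (fun y _ => one_notMem (Gr n k) y) (fun y _ => one_notMem (Gr n k) y) (by simp) _ fun _ => rfl

/-- The value of a linear form in the chart. -/
noncomputable def ev (i₀ : Fin (n + 1)) (c : Fin (n + 1) → k) : Γ(P, chart (R := k) i₀) :=
  ∑ j, (P).presheaf.map (homOfLE (le_top : chart i₀ ≤ ⊤)).op (constΓ (c j)) * tt i₀ j

theorem form_genNeg (i₀ : Fin (n + 1)) (c : Fin (n + 1) → k) :
    (form c).app (chart i₀) (genNeg i₀ le_rfl) = ev i₀ c • one0 (chart i₀) := by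
  refine sval_ext _ _ fun y => ?_
  rw [sval_form, sval_genNeg, sval_smul, sval_one0]
  simp only [smul_eq_mul, mul_one]
  have h : fval (Gr n k) (ev i₀ c) y = ∑ j, fval (Gr n k) ((P).presheaf.map (homOfLE (le_top : chart i₀ ≤ ⊤)).op (constΓ (c j))) y *
      fval (Gr n k) (tt i₀ j) y := by
    show fvalHom y (ev i₀ c) = _
    simp only [ev, map_sum, map_mul]
    rfl
  rw [h, show (Localization.mk (∑ j, C (c j) * X j) 1 : GrTwist.Loc (Gr n k) y.1) =
      ∑ j, Localization.mk (C (c j) * X j) 1 by simp only [Localization.mk_one_eq_algebraMap, map_sum],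
    Finset.sum_mul]
  refine Finset.sum_congr rfl fun j _ => ?_
  rw [fval_constΓ_map, fval_tt, Localization.mk_mul, Localization.mk_mul, mul_one, one_mul]

/-- Residue of a chart section. -/
noncomputable def res (i₀ : Fin (n + 1)) {x : P} (hx : x ∈ chart i₀) :
    Γ(P, chart (R := k) i₀) →+* IsLocalRing.ResidueField ((P).presheaf.stalk x) :=
  (IsLocalRing.residue _).comp ((P).presheaf.germ (chart i₀) x hx).hom

theorem tt_self (i₀ : Fin (n + 1)) : tt (n := n) (R := k) i₀ i₀ = 1 := fval_ext _ fun y => by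
  rw [fval_tt, fval_one]
  exact Localization.mk_self (⟨X i₀, y.2⟩ : primeC y.1)

theorem res_tt_eq_zero (i₀ j : Fin (n + 1)) {x : P} (hx : x ∈ chart i₀)
    (hj : (X j : MvPolynomial (Fin (n + 1)) k) ∈ x.asHomogeneousIdeal.toIdeal) :
    res i₀ hx (tt i₀ j) = 0 := by
  refine IsLocalRing.residue_eq_zero_iff _ |>.2 fun hu => ?_
  obtain ⟨u, hu⟩ := hu
  obtain ⟨V, hV, v, hv⟩ := TopCat.Presheaf.exists_germ_eq (P).presheaf (↑u⁻¹ : (P).presheaf.stalk x)
  let W : (P).Opens := V ⊓ chart i₀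
  have h1 : (P).presheaf.germ W x ⟨hV, hx⟩ ((P).presheaf.map (homOfLE (inf_le_left : W ≤ V)).op v *
      (P).presheaf.map (homOfLE (inf_le_right : W ≤ chart i₀)).op (tt i₀ j)) = (P).presheaf.germ W x ⟨hV, hx⟩ 1 := by
    rw [map_mul, map_one, TopCat.Presheaf.germ_res_apply, TopCat.Presheaf.germ_res_apply, hv]
    exact (congrArg (fun t => (↑u⁻¹ : (P).presheaf.stalk x) * t) hu.symm).trans u.inv_mul
  obtain ⟨W', hW', i₁, i₂, he⟩ := TopCat.Presheaf.germ_eq (P).presheaf x _ _ _ _ h1
  have h2 := congrArg (fun t => fval (Gr n k) t ⟨x, hW'⟩) he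
  rw [show i₁ = homOfLE i₁.le from rfl, show i₂ = homOfLE i₂.le from rfl] at h2
  simp only [fval_map, fval_mul, fval_one, fval_tt] at h2
  haveI := x.isPrime
  refine (IsLocalRing.maximalIdeal.isMaximal (Localization.AtPrime x.asHomogeneousIdeal.toIdeal)).ne_top
    ((Ideal.eq_top_iff_one _).2 ?_)
  erw [← h2]
  refine Ideal.mul_mem_left _ _ ?_
  rw [show fval (Gr n k) ((P).presheaf.map (homOfLE (inf_le_right : W ≤ chart i₀)).op (tt i₀ j)) ⟨x, i₁.le hW'⟩ =
    Localization.mk (X j) ⟨X i₀, hx⟩ from fval_tt i₀ j ⟨x, hx⟩]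
  rw [Localization.mk_eq_mk']
  exact (IsLocalization.AtPrime.mk'_mem_maximal_iff _ x.asHomogeneousIdeal.toIdeal _ _).2 hj

theorem res_ev_eq (i₀ : Fin (n + 1)) {x : P} (hx : x ∈ chart i₀) (c : Fin (n + 1) → k)
    (h : ∀ j, j ≠ i₀ → c j = 0 ∨ (X j : MvPolynomial (Fin (n + 1)) k) ∈ x.asHomogeneousIdeal.toIdeal) :
    res i₀ hx (ev i₀ c) = res i₀ hx ((P).presheaf.map (homOfLE (le_top : chart i₀ ≤ ⊤)).op (constΓ (c i₀))) := by
  rw [ev, map_sum, Finset.sum_eq_single i₀]
  · rw [tt_self, mul_one]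
  · intro j _ hj
    rw [map_mul]
    rcases h j hj with hc | hm
    · rw [hc, show constΓ (n := n) (R := k) 0 = 0 from map_zero (Coh.toGlobal (toS n k)), map_zero, map_zero, zero_mul]
    · rw [res_tt_eq_zero i₀ j hx hm, mul_zero]
  · simp

theorem isUnit_res_const (i₀ : Fin (n + 1)) {x : P} (hx : x ∈ chart i₀) {c : k} (hc : c ≠ 0) :
    IsUnit (res i₀ hx ((P).presheaf.map (homOfLE (le_top : chart i₀ ≤ ⊤)).op (constΓ c))) :=
  (((hc.isUnit).map (Coh.toGlobal (toS n k))).map ((P).presheaf.map (homOfLE (le_top : chart i₀ ≤ ⊤)).op).hom).map _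

variable (i₀ : Fin (n + 1))

/-- The row belonging to a column. -/
def row (l : Fin n) : Fin (2 * n - 1) :=
  ⟨(i₀.succAbove l).1 + i₀.1 - 1, by
    have h1 := (i₀.succAbove l).2
    have h2 := i₀.2
    have h3 : (i₀.succAbove l).1 ≠ i₀.1 := fun h => i₀.succAbove_ne l (Fin.ext h)
    omega⟩

theorem row_val (l : Fin n) : (row i₀ l).1 + 1 = (i₀.succAbove l).1 + i₀.1 := by
  have h3 : (i₀.succAbove l).1 ≠ i₀.1 := fun h => i₀.succAbove_ne l (Fin.ext h)
  show (i₀.succAbove l).1 + i₀.1 - 1 + 1 = _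
  omega

variable (k) in
/-- The inclusion of all columns but one. -/
noncomputable def inc : (∐ fun _ : Fin n => Od n k (-1)) ⟶ ∐ fun _ : Fin (n + 1) => Od n k (-1) :=
  Sigma.desc fun l => Sigma.ι (fun _ : Fin (n + 1) => Od n k (-1)) (i₀.succAbove l)

variable (k) in
/-- The selected rows. -/
noncomputable def sel : (∐ fun _ : Fin (2 * n - 1) => Od n k 0) ⟶ ∐ fun _ : Fin n => Od n k 0 :=
  ∑ l, proj (fun _ : Fin (2 * n - 1) => Od n k 0) (row i₀ l) ≫ Sigma.ι (fun _ : Fin n => Od n k 0) l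

theorem sel_proj (l : Fin n) : sel k i₀ ≫ proj (fun _ : Fin n => Od n k 0) l =
    proj (fun _ : Fin (2 * n - 1) => Od n k 0) (row i₀ l) := by
  rw [sel, Preadditive.sum_comp, Finset.sum_eq_single l]
  · rw [Category.assoc, ι_proj, dif_pos rfl, eqToHom_refl, Category.comp_id]
  · intro b _ hb; rw [Category.assoc, ι_proj, dif_neg hb, comp_zero]
  · simp

theorem bijective_square {x : P} (hx : x ∈ chart i₀)
    (hmin : ∀ j, j < i₀ → (X j : MvPolynomial (Fin (n + 1)) k) ∈ x.asHomogeneousIdeal.toIdeal) :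
    Function.Bijective (stalkLin (inc k i₀ ≫ lam k n ≫ sel k i₀) x) := by
  let g := (Od n k (-1)).presheaf.germ (chart i₀) x hx (genNeg i₀ le_rfl)
  let g' := (Od n k 0).presheaf.germ (chart i₀) x hx (one0 (chart i₀))
  have hg : Function.Bijective fun r : (P).presheaf.stalk x => r • g :=
    bijective_germ_smul _ (fun V h => bijective_smul_genNeg i₀ h) hx
  have hg' : Function.Bijective fun r : (P).presheaf.stalk x => r • g' :=
    bijective_germ_smul _ (fun V _ => bijective_smul_one0 V) hx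
  let M : Matrix (Fin n) (Fin n) ((P).presheaf.stalk x) :=
    Matrix.of fun m l => (P).presheaf.germ (chart i₀) x hx (ev i₀ (coef (i₀.succAbove l) (row i₀ m)))
  refine bijective_of_matrix (Od n k (-1)) x g g' hg hg' _ M (fun l m => ?_) ?_
  · rw [show Sigma.ι (fun _ : Fin n => Od n k (-1)) l ≫ (inc k i₀ ≫ lam k n ≫ sel k i₀) ≫
        proj (fun _ : Fin n => Od n k 0) m = form (coef (i₀.succAbove l) (row i₀ m)) by
      simp only [Category.assoc, sel_proj, inc, Sigma.ι_desc_assoc, ι_lam_proj]]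
    rw [stalkLin_germ, form_genNeg, germ_smul]
    rfl
  · have htri : (M.map (IsLocalRing.residue _)).BlockTriangular OrderDual.toDual := by
      intro m l hlm
      replace hlm : m < l := hlm
      show res i₀ hx (ev i₀ (coef (i₀.succAbove l) (row i₀ m))) = 0
      have hpos : (i₀.succAbove m).1 < (i₀.succAbove l).1 := Fin.strictMono_succAbove i₀ hlm
      have hrow := row_val i₀ m
      rw [res_ev_eq i₀ hx _ fun j _ => ?_]
      · have h0 : coef (k := k) (i₀.succAbove l) (row i₀ m) i₀ = 0 := by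
          rw [coef, if_neg (by omega)]
        rw [h0, show constΓ (n := n) (R := k) 0 = 0 from map_zero (Coh.toGlobal (toS n k)), map_zero, map_zero]
      · by_cases hj : (i₀.succAbove l).1 + j.1 = (row i₀ m).1 + 1
        · exact Or.inr (hmin j (Fin.lt_def.2 (by omega)))
        · exact Or.inl (by rw [coef, if_neg hj])
    rw [← isUnit_map_iff (IsLocalRing.residue ((P).presheaf.stalk x)), RingHom.map_det,
      RingHom.mapMatrix_apply, Matrix.det_of_lowerTriangular _ htri, IsUnit.prod_univ_iff]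
    intro l
    show IsUnit (res i₀ hx (ev i₀ (coef (i₀.succAbove l) (row i₀ l))))
    have hrow := row_val i₀ l
    rw [res_ev_eq i₀ hx _ fun j hj => ?_]
    · refine isUnit_res_const i₀ hx ?_
      rw [coef, if_pos (by omega), sg]
      rcases lt_or_gt_of_ne (i₀.succAbove_ne l) with h | h
      · rw [if_pos h]; exact one_ne_zero
      · rw [if_neg h.asymm, if_pos h]; exact neg_ne_zero.2 one_ne_zero
    · exact Or.inl (by rw [coef, if_neg fun h => hj (Fin.ext (by omega))])

theorem surjective_inc {x : P} (hx : x ∈ chart i₀) :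
    Function.Surjective (stalkLin (inc k i₀ ≫ cokernel.π (w0 k n)) x) := by
  intro z
  have hS : (ShortComplex.mk (w0 k n) (cokernel.π (w0 k n)) (cokernel.condition _)).Exact :=
    ShortComplex.exact_cokernel _
  have hπ : Function.Surjective (stalkLin (cokernel.π (w0 k n)) x) := surjective_stalk_of_epi _ x
  obtain ⟨z, rfl⟩ := hπ z
  let L := Od n k (-1)
  let pr := fun l => stalkLin (proj (fun _ : Fin (n + 1) => L) l) x
  obtain ⟨t, ht⟩ := (H26ZClos.stalk_bijective_of_app (mulX (R := k) i₀ (-2) (-1) rfl).mapPresheaf (chart i₀)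
    (fun W hW => VBPn.bijective_mulX_app i₀ hW) hx).2 (pr i₀ z)
  have hw : ∀ l, pr l (stalkLin (w0 k n) x t) = stalkLin (mulX (R := k) l (-2) (-1) rfl) x t := fun l => by
    show stalkLin (proj (fun _ : Fin (n + 1) => L) l) x (stalkLin (w0 k n) x t) = _
    rw [← H29Omega.stalkLin_comp, w0, Preadditive.sum_comp, Finset.sum_eq_single l]
    · rw [Category.assoc, ι_proj, dif_pos rfl, eqToHom_refl, Category.comp_id]
    · intro b _ hb; rw [Category.assoc, ι_proj, dif_neg hb, comp_zero]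
    · simp
  let z' := z - stalkLin (w0 k n) x t
  have hz0 : pr i₀ z' = 0 := by
    show pr i₀ (z - _) = 0
    rw [map_sub, hw i₀]
    exact sub_eq_zero.2 ht.symm
  refine ⟨∑ m, stalkLin (Sigma.ι (fun _ : Fin n => L) m) x (pr (i₀.succAbove m) z'), ?_⟩
  have hinc : stalkLin (inc k i₀) x (∑ m, stalkLin (Sigma.ι (fun _ : Fin n => L) m) x (pr (i₀.succAbove m) z')) = z' := by
    conv_rhs => rw [eq_sum_proj L x z', Fin.sum_univ_succAbove _ i₀]
    rw [show stalkLin (proj (fun _ : Fin (n + 1) => L) i₀) x z' = 0 from hz0, map_zero, zero_add, map_sum]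
    refine Finset.sum_congr rfl fun m _ => ?_
    rw [← H29Omega.stalkLin_comp, inc, Sigma.ι_desc]
  rw [H29Omega.stalkLin_comp, hinc, map_sub, ← H29Omega.stalkLin_comp, cokernel.condition, stalkLin_zero,
    LinearMap.zero_apply, sub_zero]

theorem isFinLocFreeOfRank_sigma (N : ℕ) (d : ℤ) :
    FlatMod.IsFinLocFreeOfRank N (∐ fun _ : Fin N => Od n k d) := by
  haveI : IsIntegral (P) := LeadPic.PnRel.isIntegral_projSpace (n := n) k
  have hinv : PicF.IsInvertible (Od n k d) := by
    have h : ∀ M : (CohB1.ProjSpace n k).Modules, Twist.twistProjSpace n k d = M → PicF.IsInvertible M := by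
      rintro M rfl
      exact (H10Coh.Stab.isTwistFamily_projSpace n k).inv d
    exact h _ (H17.PnExt.od_eq n k d)
  have hfree : FlatMod.IsFinLocFree (Od n k d) := H28Pinch.isFinLocFree_of_isInvertible hinv
  haveI : IsNoetherian (P) := H10Coh.ProjQ.isNoetherian_proj (Gr n k)
  refine H23KS.CurveLattice.isFinLocFreeOfRank_of_generic _
    (H16Derived.KFlat.Stalk.isFinLocFree_sigma _ fun _ => hfree) ?_
  haveI : IsLocallyNoetherian (P) := by
    haveI := H19Grp.ProjPoint.lft_toSpec (K := k) n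
    exact LocallyOfFiniteType.isLocallyNoetherian (CohB1.ProjSpace.toSpec n k)
  obtain ⟨hf, hfi, hr⟩ := H25Par.finrank_stalk (H29RR.rank_one_of_isInvertible hinv) (genericPoint (P))
  haveI := hf; haveI := hfi
  let b := Module.finBasisOfFinrankEq _ _ hr
  refine finrank_sigma_stalk _ _ (b 0) ⟨fun r s h => ?_, fun z => ⟨b.repr z 0, ?_⟩⟩
  · simpa using congrArg (fun v => b.repr v 0) h
  · exact (b.sum_repr z).symm.trans (Fin.sum_univ_one _) |>.symm

/-- The quotient is a bundle and the map to the trivial bundle is a subbundle. -/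
theorem rank_quotient [QuasiSeparated (CohB1.ProjSpace.toSpec n k)] :
    Mono (w0 k n) ∧ Mono (lamBar k n) ∧ FlatMod.IsFinLocFreeOfRank (n - 1) (cokernel (lamBar k n)) := by
  haveI : IsIntegral (P) := LeadPic.PnRel.isIntegral_projSpace (n := n) k
  haveI : IsLocallyNoetherian (P) := by
    haveI := H19Grp.ProjPoint.lft_toSpec (K := k) n
    exact LocallyOfFiniteType.isLocallyNoetherian (CohB1.ProjSpace.toSpec n k)
  have hL : FlatMod.IsFinLocFreeOfRank 1 (Od n k (-2)) := by
    have h : ∀ M : (CohB1.ProjSpace n k).Modules, Twist.twistProjSpace n k (-2) = M →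
        FlatMod.IsFinLocFreeOfRank 1 M := by
      rintro M rfl
      exact H29RR.rank_one_of_isInvertible ((H10Coh.Stab.isTwistFamily_projSpace n k).inv (-2))
    exact h _ (H17.PnExt.od_eq n k (-2))
  obtain ⟨hw, hT⟩ := VBPn.mono_and_coker_rank (w0 k n) hL (isFinLocFreeOfRank_sigma (n + 1) (-1)) fun x => by
    obtain ⟨i, hi⟩ := H11Ample.exists_mem_basicOpen_X (n := n) (R := k) x
    have hb : Function.Bijective (stalkLin (mulX (R := k) i (-2) (-1) rfl) x) :=
      H26ZClos.stalk_bijective_of_app (mulX (R := k) i (-2) (-1) rfl).mapPresheaf (chart i)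
        (fun W hW => VBPn.bijective_mulX_app i hW) hi
    refine ⟨(LinearEquiv.ofBijective _ hb).symm.toLinearMap ∘ₗ
      stalkLin (proj (fun _ : Fin (n + 1) => Od n k (-1)) i) x, LinearMap.ext fun a => ?_⟩
    refine (LinearEquiv.ofBijective _ hb).injective ?_
    show LinearEquiv.ofBijective _ hb ((LinearEquiv.ofBijective _ hb).symm _) = _
    rw [LinearEquiv.apply_symm_apply, ← H29Omega.stalkLin_comp, w0, Preadditive.sum_comp, Finset.sum_eq_single i]
    · rw [Category.assoc, ι_proj, dif_pos rfl, eqToHom_refl, Category.comp_id]; rfl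
    · intro b _ hb'; rw [Category.assoc, ι_proj, dif_neg hb', comp_zero]
    · simp
  rw [Nat.add_sub_cancel] at hT
  refine ⟨hw, ?_⟩
  have h := VBPn.mono_and_coker_rank (lamBar k n) hT (isFinLocFreeOfRank_sigma (2 * n - 1) 0) fun x => ?_
  · exact ⟨h.1, by rw [show n - 1 = 2 * n - 1 - n by omega]; exact h.2⟩
  classical
  let S := Finset.univ.filter fun j : Fin (n + 1) => (X j : MvPolynomial (Fin (n + 1)) k) ∉ x.asHomogeneousIdeal.toIdeal
  obtain ⟨i, hi⟩ := H11Ample.exists_mem_basicOpen_X (n := n) (R := k) x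
  have hne : S.Nonempty := ⟨i, Finset.mem_filter.2 ⟨Finset.mem_univ _, hi⟩⟩
  let i₀ := S.min' hne
  have hx : x ∈ chart (R := k) i₀ := (Finset.mem_filter.1 (S.min'_mem hne)).2
  have hmin : ∀ j, j < i₀ → (X j : MvPolynomial (Fin (n + 1)) k) ∈ x.asHomogeneousIdeal.toIdeal := fun j hj => by
    by_contra h
    exact absurd (S.min'_le j (Finset.mem_filter.2 ⟨Finset.mem_univ _, h⟩)) (not_le.2 hj)
  let G := LinearEquiv.ofBijective _ (bijective_square i₀ hx hmin)
  let B := stalkLin (inc k i₀ ≫ cokernel.π (w0 k n)) x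
  refine ⟨B ∘ₗ G.symm.toLinearMap ∘ₗ stalkLin (sel k i₀) x, LinearMap.ext fun z => ?_⟩
  obtain ⟨v, rfl⟩ := surjective_inc i₀ hx z
  show B (G.symm (stalkLin (sel k i₀) x (stalkLin (lamBar k n) x (B v)))) = B v
  refine congrArg B (G.injective ((G.apply_symm_apply _).trans ?_))
  show stalkLin (sel k i₀) x (stalkLin (lamBar k n) x (stalkLin (inc k i₀ ≫ cokernel.π (w0 k n)) x v)) =
    stalkLin (inc k i₀ ≫ lam k n ≫ sel k i₀) x v
  rw [← H29Omega.stalkLin_comp, ← H29Omega.stalkLin_comp, Category.assoc, ← π_lamBar, Category.assoc]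

end Groth.Agent.H02CA.Tango
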