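import Groth.Agent.H02CA.Tango.Stalk
import Groth.Agent.H02CA.VBPn.Extend
import Groth.Agent.H17.PnExt.Main

/-!
# Tango's bundle is simple
-/

set_option autoImplicit false
set_option linter.style.haveILetI false
set_option backward.isDefEq.respectTransparency false
set_option maxHeartbeats 1600000
universe u

open CategoryTheory CategoryTheory.Limits AlgebraicGeometry TopologicalSpace Opposite MvPolynomial
open Groth.Agent.H11Tilde Groth.Agent.H10Coh.Pn Groth.Agent.H02CA.Euler

namespace Groth.Agent.H02CA.Tango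

attribute [local instance] H29RR.PnPic.overSpec
attribute [local instance 10000] H10Coh.hasSheafifyAb H10Coh.hasWeakSheafifyAb H10Coh.hasExtAb H10Coh.enoughInjAb

variable {k : Type u} [Field k] {n : ℕ}

local notation "toG" => Coh.toGlobal (toS n k)

theorem hom_to_sigma_ext {X : Scheme.{u}} {N : ℕ} {A : X.Modules} (M : Fin N → X.Modules) (f g : A ⟶ ∐ M)
    (h : ∀ l, f ≫ proj M l = g ≫ proj M l) : f = g := by
  rw [← Category.comp_id f, ← Category.comp_id g, ← sum_proj_ι M, Preadditive.comp_sum, Preadditive.comp_sum]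
  exact Finset.sum_congr rfl fun l _ => by rw [← Category.assoc, ← Category.assoc, h]

theorem smul_proj {X : Scheme.{u}} {N : ℕ} (M : Fin N → X.Modules) (r : Coh.Γtop X) (i l : Fin N) :
    Sigma.ι M i ≫ Formal.smulModΓ (∐ M) r ≫ proj M l =
      if h : i = l then eqToHom (congrArg M h) ≫ Formal.smulModΓ (M l) r else 0 := by
  rw [smulModΓ_natural, ← Category.assoc, ι_proj]
  split_ifs <;> simp

/-- The coordinate pair of a row. -/
theorem exists_pair (hn : 1 ≤ n) (s : Fin (2 * n - 1)) :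
    ∃ i j : Fin (n + 1), i < j ∧ i.1 + j.1 = s.1 + 1 := by
  have := s.2
  by_cases h : s.1 + 1 ≤ n
  · exact ⟨⟨0, by omega⟩, ⟨s.1 + 1, by omega⟩, Fin.lt_def.2 (by simp), by simp⟩
  · exact ⟨⟨s.1 + 1 - n, by omega⟩, ⟨n, by omega⟩, Fin.lt_def.2 (by simp; omega), by simp; omega⟩

/-- Endomorphisms of the quotient bundle are scalars. -/
theorem exists_scalar [QuasiSeparated (CohB1.ProjSpace.toSpec n k)] (hn : 1 ≤ n)
    (φ : cokernel (lamBar k n) ⟶ cokernel (lamBar k n)) :
    ∃ c : k, φ = Formal.smulModΓ (cokernel (lamBar k n)) (toG c) := by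
  obtain ⟨hw0, hlb, -⟩ := rank_quotient (k := k) (n := n)
  haveI := hw0; haveI := hlb
  have hT : H10Coh.Stab.IsTwistFamily (fun d : ℤ => Od n k d) := by
    have h : ∀ O : ℤ → (CohB1.ProjSpace n k).Modules, (fun d => Twist.twistProjSpace n k d) = O →
        H10Coh.Stab.IsTwistFamily O := by
      rintro O rfl
      exact H10Coh.Stab.isTwistFamily_projSpace n k
    exact h _ (funext fun d => H17.PnExt.od_eq n k d)
  have hS : (ShortComplex.mk (w0 k n) (cokernel.π (w0 k n)) (cokernel.condition _)).ShortExact :=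
    { exact := ShortComplex.exact_cokernel _ }
  have hS' : (ShortComplex.mk (lamBar k n) (cokernel.π (lamBar k n)) (cokernel.condition _)).ShortExact :=
    { exact := ShortComplex.exact_cokernel _ }
  obtain ⟨e0⟩ := hT.zero
  obtain ⟨e00⟩ := hT.add 0 0
  obtain ⟨e11⟩ := hT.add (-1) 1
  obtain ⟨e21⟩ := hT.add (-2) 1
  have hT1 : Subsingleton (Coh.HH _ (tango₁ k n) 1) :=
    VBPn.subsingleton_HH_right k hS 1
      (H17.PnExt.subsingleton_HH_sigma (k := k) _ 1 fun _ => subsingleton_HH_Od 1 (by omega) (by omega))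
      (subsingleton_HH_Od (1 + 1) (by omega) (by omega))
  let eT : CohB1.tensorMod (tango₁ k n) (Od n k 0) ≅ tango₁ k n :=
    PicGrp.tensorModIso (Iso.refl _) e0 ≪≫ SecTwist.unitorR _
  have hlift : ∀ s : Fin (2 * n - 1), ∃ a : Od n k 0 ⟶ ∐ fun _ : Fin (2 * n - 1) => Od n k 0,
      a ≫ cokernel.π (lamBar k n) = Sigma.ι (fun _ : Fin (2 * n - 1) => Od n k 0) s ≫ cokernel.π (lamBar k n) ≫ φ :=
    fun s => VBPn.exists_lift_of_h1 k hS' (hT.inv 0)
      (e00 ≪≫ eqToIso (congrArg _ (add_zero (0 : ℤ))) ≪≫ e0) (H10Coh.subsingleton_HH_of_iso eT.symm 1 hT1) _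
  choose a ha using hlift
  choose A hA using fun s s' => exists_end_zero (a s ≫ proj (fun _ : Fin (2 * n - 1) => Od n k 0) s')
  let M := Sigma.desc a
  have hM : M ≫ cokernel.π (lamBar k n) = cokernel.π (lamBar k n) ≫ φ := Sigma.hom_ext _ _ fun s => by
    rw [Sigma.ι_desc_assoc]; exact ha s
  have h0 : (lamBar k n ≫ M) ≫ cokernel.π (lamBar k n) = 0 := by
    rw [Category.assoc, hM, cokernel.condition_assoc, zero_comp]
  let t : tango₁ k n ⟶ tango₁ k n := hS'.exact.lift _ h0
  have ht : t ≫ lamBar k n = lamBar k n ≫ M := hS'.exact.lift_f _ h0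
  have h21 : Subsingleton (Coh.HH _ (CohB1.tensorMod (Od n k (-2)) (Od n k 1)) 1) :=
    H10Coh.subsingleton_HH_of_iso (e21 ≪≫ eqToIso (congrArg _ (show (-2 : ℤ) + 1 = -1 by norm_num))).symm 1
      (subsingleton_HH_Od 1 (by omega) (by omega))
  have hliftB : ∀ i : Fin (n + 1), ∃ b : Od n k (-1) ⟶ ∐ fun _ : Fin (n + 1) => Od n k (-1),
      b ≫ cokernel.π (w0 k n) = Sigma.ι (fun _ : Fin (n + 1) => Od n k (-1)) i ≫ cokernel.π (w0 k n) ≫ t :=
    fun i => VBPn.exists_lift_of_h1 k hS (hT.inv 1)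
      (e11 ≪≫ eqToIso (congrArg _ (neg_add_cancel (1 : ℤ))) ≪≫ e0) h21 _
  choose b hb using hliftB
  choose B hB using fun i l => exists_end_eq_smul (b i ≫ proj (fun _ : Fin (n + 1) => Od n k (-1)) l)
  let Bm := Sigma.desc b
  have hBm : Bm ≫ cokernel.π (w0 k n) = cokernel.π (w0 k n) ≫ t := Sigma.hom_ext _ _ fun i => by
    rw [Sigma.ι_desc_assoc]; exact hb i
  have h0' : (w0 k n ≫ Bm) ≫ cokernel.π (w0 k n) = 0 := by
    rw [Category.assoc, hBm, cokernel.condition_assoc, zero_comp]
  have hz : hS.exact.lift _ h0' ≫ w0 k n = w0 k n ≫ Bm := hS.exact.lift_f _ h0'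
  have hw0p : ∀ l, w0 k n ≫ proj (fun _ : Fin (n + 1) => Od n k (-1)) l = mulX l (-2) (-1) rfl := fun l => by
    rw [w0, Preadditive.sum_comp, Finset.sum_eq_single l]
    · rw [Category.assoc, ι_proj, dif_pos rfl, eqToHom_refl, Category.comp_id]
    · intro i _ hi; rw [Category.assoc, ι_proj, dif_neg hi, comp_zero]
    · simp
  obtain ⟨c, hc⟩ := scalar_of_preserve B hn (hS.exact.lift _ h0') fun l => by
    rw [← hw0p l, ← Category.assoc, hz, w0, Preadditive.sum_comp, Preadditive.sum_comp]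
    refine Finset.sum_congr rfl fun i _ => ?_
    rw [← hB i l, Category.assoc, Category.assoc, Sigma.ι_desc_assoc]
  have hBc : ∀ i l, b i ≫ proj (fun _ : Fin (n + 1) => Od n k (-1)) l =
      Formal.smulModΓ (Od n k (-1)) (toG (if i = l then c else 0)) := fun i l => by rw [hB i l, hc i l]
  have hBscal : Bm = Formal.smulModΓ _ (toG c) := Sigma.hom_ext _ _ fun i => hom_to_sigma_ext _ _ _ fun l => by
    rw [Category.assoc, Category.assoc, smul_proj, Sigma.ι_desc_assoc, hBc]
    split_ifs with h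
    · subst h; rw [eqToHom_refl, Category.id_comp]
    · rw [map_zero, smulModΓ_zero]
  have hcomm : Bm ≫ lam k n = lam k n ≫ M := by
    rw [← π_lamBar, ← Category.assoc, hBm, Category.assoc, ht, Category.assoc]
  have hcoef : ∀ i s j, ∑ s', A s' s * coef (k := k) i s' j = c * coef i s j := by
    intro i s j
    have h := congrArg (fun f => Sigma.ι (fun _ : Fin (n + 1) => Od n k (-1)) i ≫ f ≫
      proj (fun _ : Fin (2 * n - 1) => Od n k 0) s) hcomm
    simp only [hBscal, Category.assoc] at h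
    rw [← Category.assoc, ← smulModΓ_natural, Category.assoc, ι_lam_proj, smul_form] at h
    have h2 : Sigma.ι (fun _ : Fin (n + 1) => Od n k (-1)) i ≫ lam k n ≫ M ≫
        proj (fun _ : Fin (2 * n - 1) => Od n k 0) s = form (∑ s', fun j => A s' s * coef i s' j) := by
      rw [← Category.assoc, ι_lam, Preadditive.sum_comp, form_sum]
      refine Finset.sum_congr rfl fun s' _ => ?_
      rw [Category.assoc, Sigma.ι_desc_assoc, hA s' s, form_smul]
    rw [h2] at h
    exact ((congrFun (form_injective h) j).trans (Finset.sum_apply j _ _)).symm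
  have hAc : ∀ s' s, A s' s = if s' = s then c else 0 := by
    intro s' s
    obtain ⟨i, j, hij, hsum⟩ := exists_pair hn s'
    have hcf : ∀ s'', coef (k := k) i s'' j = if s'' = s' then 1 else 0 := fun s'' => by
      rw [coef, sg, if_pos hij]
      by_cases h : s'' = s'
      · subst h; rw [if_pos hsum, if_pos rfl]
      · rw [if_neg h, if_neg fun h' => h (Fin.ext (by omega))]
    have h := hcoef i s j
    simp only [hcf, mul_ite, mul_one, mul_zero, Finset.sum_ite_eq', Finset.mem_univ, if_true] at h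
    rw [h]
    exact if_congr eq_comm rfl rfl
  have hMscal : M = Formal.smulModΓ _ (toG c) := Sigma.hom_ext _ _ fun s' => hom_to_sigma_ext _ _ _ fun s => by
    rw [Category.assoc, Category.assoc, smul_proj, Sigma.ι_desc_assoc, hA s' s, hAc s' s]
    split_ifs with h
    · subst h; rw [eqToHom_refl, Category.id_comp]
    · rw [map_zero, smulModΓ_zero]
  refine ⟨c, (cancel_epi (cokernel.π (lamBar k n))).1 ?_⟩
  rw [← hM, hMscal, smulModΓ_natural]

end Groth.Agent.H02CA.Tango
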